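import Groth.Agent.KReg47.Generic
import Groth.Agent.RegImm44.BaseChange
import Groth.Agent.RegImm44.Affine
import Mathlib.AlgebraicGeometry.Morphisms.Smooth
import Mathlib.AlgebraicGeometry.Limits

/-!
# Koszul-regular closed immersions become regular on a smooth cover
-/

set_option autoImplicit false
set_option maxHeartbeats 800000

universe u

open CategoryTheory Limits AlgebraicGeometry

namespace Groth.Agent.KReg47

variable {Z X : Scheme.{u}} (i : Z ⟶ X)

/-- Chart data: a smooth affine scheme over `X` through `x` over which `i` becomes regular, stably under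
placing it as an open subscheme of any `X`-scheme. -/
theorem exists_chart [IsClosedImmersion i] (hi : RegImm.IsRegularImmersion RegImm.Kind.koszul i) (x : ↥X) :
    ∃ (S : CommRingCat.{u}) (gS : Spec S ⟶ X), Smooth gS ∧ x ∈ Set.range gS ∧
      ∀ (X' : Scheme.{u}) (g : X' ⟶ X) (j : Spec S ⟶ X') (_ : IsOpenImmersion j), j ≫ g = gS →
        ∀ w : ↥(pullback i g), pullback.snd i g w ∈ Set.range j →
          RegImm.IsRegularImmersionAt RegImm.Kind.regular (pullback.snd i g) w := by
  by_cases hx : x ∈ Set.range i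
  · obtain ⟨z₀, rfl⟩ := hx
    obtain ⟨⟨U, hU⟩, hz, hcl, rs, hrs, hker⟩ := hi.2 z₀
    obtain ⟨σ, hσ, l, hl, hlI⟩ := exists_isWeaklyRegular rs.length rs rfl hrs
    haveI := hσ
    let φ : Γ(X, U) ⟶ CommRingCat.of (MvPolynomial σ Γ(X, U)) := CommRingCat.ofHom MvPolynomial.C
    haveI : Smooth (Spec.map φ) := by
      rw [HasRingHomProperty.Spec_iff (P := @Smooth)]
      exact RingHom.smooth_algebraMap.mpr
        (Algebra.Smooth.mk : Algebra.Smooth Γ(X, U) (MvPolynomial σ Γ(X, U)))
    refine ⟨CommRingCat.of (MvPolynomial σ Γ(X, U)), Spec.map φ ≫ hU.fromSpec, inferInstance, ?_, ?_⟩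
    · let ε : CommRingCat.of (MvPolynomial σ Γ(X, U)) ⟶ Γ(X, U) :=
        CommRingCat.ofHom (MvPolynomial.eval₂Hom (RingHom.id _) 0)
      have h1 : φ ≫ ε = 𝟙 _ := CommRingCat.hom_ext (RingHom.ext fun a => by simp [φ, ε])
      refine ⟨Spec.map ε (hU.primeIdealOf ⟨i z₀, hz⟩), ?_⟩
      rw [← Scheme.Hom.comp_apply, ← Spec.map_comp_assoc, h1, Spec.map_id, Category.id_comp]
      exact hU.fromSpec_primeIdealOf ⟨i z₀, hz⟩
    · intro X' g j hj hjg w hw
      haveI := hj
      let U' : X'.Opens := j.opensRange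
      have hU' : IsAffineOpen U' := isAffineOpen_opensRange j
      have e : U' ≤ g ⁻¹ᵁ U := by
        rintro _ ⟨p, rfl⟩
        show g (j p) ∈ U
        rw [← Scheme.Hom.comp_apply, hjg, Scheme.Hom.comp_apply]
        have : hU.fromSpec (Spec.map φ p) ∈ Set.range hU.fromSpec := ⟨_, rfl⟩
        rwa [hU.range_fromSpec] at this
      have hsq : IsPullback (pullback.fst i g) (pullback.snd i g) i g := IsPullback.of_hasPullback i g
      haveI : IsClosedImmersion (i ∣_ U) := hcl
      have hk := RegImm44.ker_app_baseChange hsq hU hU' e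
      have hkerI : RingHom.ker (i.app U).hom = Ideal.ofList rs := hker
      rw [hkerI] at hk
      have he' : (⊤ : (Spec (CommRingCat.of (MvPolynomial σ Γ(X, U)))).Opens) ≤ j ⁻¹ᵁ U' :=
        fun p _ => ⟨p, rfl⟩
      let θ := j.appLE U' ⊤ he' ≫ (Scheme.ΓSpecIso (CommRingCat.of (MvPolynomial σ Γ(X, U)))).hom
      haveI : IsIso (j.appLE U' ⊤ he') := by
        rw [Scheme.Hom.appLE]
        haveI : IsIso (j.app U') := Scheme.Hom.isIso_app j U' le_rfl
        have hpre : j ⁻¹ᵁ U' = ⊤ := top_le_iff.1 he'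
        haveI : IsIso (homOfLE he') := ⟨⟨homOfLE hpre.le, rfl, rfl⟩⟩
        infer_instance
      haveI : IsIso θ := by dsimp only [θ]; infer_instance
      let eθ : Γ(X', U') ≃+* MvPolynomial σ Γ(X, U) := (asIso θ).commRingCatIsoToRingEquiv
      have hθ : g.appLE U U' e ≫ θ = φ := by
        simp only [θ, ← Category.assoc, Scheme.Hom.appLE_comp_appLE, hjg]
        rw [← Scheme.Hom.appLE_comp_appLE (Spec.map φ) hU.fromSpec U ⊤ ⊤
          (by rw [hU.fromSpec_preimage_self]) (fun _ _ => trivial)]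
        rw [Category.assoc]
        have h1 : hU.fromSpec.appLE U ⊤ (by rw [hU.fromSpec_preimage_self]) =
            (Scheme.ΓSpecIso Γ(X, U)).inv := by
          rw [Scheme.Hom.appLE, hU.fromSpec_app_self, Category.assoc, ← Functor.map_comp,
            Subsingleton.elim (_ ≫ _) (𝟙 _), CategoryTheory.Functor.map_id, Category.comp_id]
        have h2 : (Spec.map φ).appLE ⊤ ⊤ (fun _ _ => trivial) = (Spec.map φ).appTop := by
          simp [Scheme.Hom.appLE]
        rw [h1, h2]
        simp
      have hαφ : ∀ a, eθ.symm (MvPolynomial.C a) = (g.appLE U U' e).hom a := fun a =>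
        eθ.symm_apply_eq.2
          (congrArg (fun m : Γ(X, U) ⟶ CommRingCat.of (MvPolynomial σ Γ(X, U)) => m.hom a) hθ).symm
      obtain ⟨hl', hI'⟩ := exists_transport eθ.symm MvPolynomial.C (g.appLE U U' e).hom hαφ _ hl hlI
      have hspan : RingHom.ker ((pullback.snd i g).app U').hom = Ideal.ofList (l.map eθ.symm) :=
        hk.trans hI'.symm
      haveI : IsClosedImmersion (pullback.snd i g ∣_ U') := RegImm44.isClosedImmersion_restrict hsq e
      refine ⟨⟨U', hU'⟩, hw, inferInstance, l.map eθ.symm,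
        ⟨hl', ?_⟩, hspan⟩
      intro htop
      have hne := (hU'.primeIdealOf ⟨_, hw⟩).isPrime.ne_top
      refine hne (top_le_iff.1 (le_trans ?_ (RegImm44.ker_le_primeIdealOf _ hU' w hw)))
      rw [hspan]
      calc (⊤ : Ideal Γ(X', U')) = Ideal.ofList (l.map eθ.symm) • (⊤ : Submodule _ _) := htop
        _ ≤ Ideal.ofList (l.map eθ.symm) := by simp
  · obtain ⟨U, hU, hxU, hle⟩ := exists_isAffineOpen_mem_and_subset
      (U := ⟨(Set.range i)ᶜ, i.isClosedEmbedding.isClosed_range.isOpen_compl⟩) hx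
    refine ⟨Γ(X, U), hU.fromSpec, inferInstance, by rw [hU.range_fromSpec]; exact hxU, ?_⟩
    intro X' g j hj hjg w ⟨p, hp⟩
    exfalso
    refine hle (?_ : i (pullback.fst i g w) ∈ U) ⟨_, rfl⟩
    rw [← Scheme.Hom.comp_apply, pullback.condition, Scheme.Hom.comp_apply, ← hp,
      ← Scheme.Hom.comp_apply, hjg]
    have : hU.fromSpec p ∈ Set.range hU.fromSpec := ⟨_, rfl⟩
    rwa [hU.range_fromSpec] at this

end Groth.Agent.KReg47
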