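import Groth.Agent.KReg44.Weakly
import Groth.Agent.KReg44.Basic
import Mathlib.Algebra.MvPolynomial.Equiv
import Mathlib.Algebra.Polynomial.AlgebraMap
import Mathlib.RingTheory.Flat.Basic

/-!
# A Koszul-regular sequence becomes regular after generic unitriangular change

If `l` is Koszul-regular in `R`, then in some polynomial ring over `R` the extended ideal is generated by a
weakly regular sequence.
-/

set_option autoImplicit false
set_option maxHeartbeats 400000

universe u

open RingTheory.Sequence
open scoped Pointwise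

namespace Groth.Agent.KReg47

open KReg44

variable {R : Type u} [CommRing R]

/-- An element killing a Koszul-regular sequence gives a top Koszul class with the same annihilator. -/
theorem exists_top_class : ∀ (l : List R) (a : R), (∀ f ∈ l, f * a = 0) →
    ∃ x : (Koszul.koszul R l).homology (-(l.length : ℤ)), ∀ r : R, r • x = 0 ↔ r * a = 0
  | [], a, _ => by
    obtain ⟨π, hπ, hker⟩ := KosCone.Basic.exists_toH0 (A := R) []
    refine ⟨π a, fun r => ?_⟩
    rw [← map_smul, smul_eq_mul]
    show r * a ∈ LinearMap.ker π ↔ _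
    rw [hker, Ideal.ofList_nil]
    rfl
  | f :: l, a, ha => by
    obtain ⟨x, hx⟩ := exists_top_class l a fun g hg => ha g (List.mem_cons_of_mem _ hg)
    have hfx : f • x = 0 := (hx f).2 (ha f List.mem_cons_self)
    obtain ⟨y, hy⟩ := (KosCone.Basic.smul_eq_zero_iff f l (-((f :: l).length : ℤ)) (-(l.length : ℤ))
      (by simp) x).1 hfx
    refine ⟨y, fun r => ⟨fun hr => (hx r).1 ?_, fun hr => ?_⟩⟩
    · rw [← hy, ← map_smul, hr, map_zero]
    · have hd : KosCone.Basic.δ f l (-((f :: l).length : ℤ)) (-(l.length : ℤ)) (by simp) (r • y) = 0 := by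
        rw [map_smul, hy, (hx r).2 hr]
      obtain ⟨z, hz⟩ := (KosCone.Basic.δ_eq_zero_iff f l _ _ _ (r • y)).1 hd
      rw [← hz, KosCone.Basic.homology_eq_zero l _ (Or.inr (by simp)) z, map_zero]

/-- The ideal of a nonempty Koszul-regular sequence has zero annihilator. -/
theorem eq_zero_of_forall_mul_eq_zero {l : List R} (hl : LCI.IsKoszulRegularSeq R l) (hne : l ≠ [])
    {a : R} (ha : ∀ f ∈ l, f * a = 0) : a = 0 := by
  obtain ⟨x, hx⟩ := exists_top_class l a ha
  have hpos : 0 < l.length := List.length_pos_iff.2 hne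
  haveI := subsingleton_homology (hl (-(l.length : ℤ)) (by omega))
  simpa using (hx 1).1 (Subsingleton.elim _ _)

/-- The polynomial with coefficient list `l`. -/
noncomputable def gpoly : List R → Polynomial R
  | [] => 0
  | f :: l => Polynomial.C f + Polynomial.X * gpoly l

theorem gpoly_mem : ∀ l : List R, gpoly l ∈ Ideal.ofList (l.map Polynomial.C)
  | [] => Submodule.zero_mem _
  | f :: l => by
    rw [List.map_cons, Ideal.ofList_cons]
    exact Submodule.add_mem_sup (Ideal.mem_span_singleton_self _)
      (Ideal.mul_mem_left _ _ (gpoly_mem l))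

theorem forall_mul_eq_zero : ∀ (l : List R) (a : R), a • gpoly l = 0 → ∀ f ∈ l, f * a = 0
  | [], _, _ => by simp
  | f :: l, a, h => by
    intro g hg
    rcases List.mem_cons.1 hg with rfl | hg
    · have := congrArg (fun p => Polynomial.coeff p 0) h
      simpa [gpoly, mul_comm] using this
    · refine forall_mul_eq_zero l a (Polynomial.ext fun n => ?_) g hg
      have := congrArg (fun p => Polynomial.coeff p (n + 1)) h
      simpa [gpoly, Polynomial.coeff_C] using this

/-- The generic combination of a nonempty Koszul-regular sequence is a nonzerodivisor. -/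
theorem gpoly_mul_eq_zero {l : List R} (hl : LCI.IsKoszulRegularSeq R l) (hne : l ≠ [])
    {q : Polynomial R} (hq : gpoly l * q = 0) : q = 0 := by
  have h : gpoly l ∈ nonZeroDivisors (Polynomial R) :=
    Polynomial.mem_nonZeroDivisors_iff.2 fun a ha =>
      eq_zero_of_forall_mul_eq_zero hl hne (forall_mul_eq_zero l a ha)
  exact h.1 _ hq

theorem ofList_map' {S : Type u} [CommRing S] (φ : R →+* S) (l : List R) :
    Ideal.ofList (l.map φ) = (Ideal.ofList l).map φ := (Ideal.map_ofList φ l).symm

theorem isWeaklyRegular_map_ringEquiv {S : Type u} [CommRing S] (e : R ≃+* S) {rs : List R}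
    (h : IsWeaklyRegular R rs) : IsWeaklyRegular S (rs.map e) := by
  refine (AddEquiv.isWeaklyRegular_congr (e := e.toAddEquiv) ?_).1 h
  rw [List.forall₂_map_right_iff, List.forall₂_same]
  exact fun r _ x => map_mul e r x

theorem isWeaklyRegular_cons_of_quotient {g : R} {rs : List R} (hg : ∀ x, g * x = 0 → x = 0)
    {B : Type u} [CommRing B] (q : R →+* B) (hq : Function.Surjective q)
    (hker : RingHom.ker q = Ideal.span {g}) (h : IsWeaklyRegular B (rs.map q)) :
    IsWeaklyRegular R (g :: rs) := by
  refine (isWeaklyRegular_cons_iff R g rs).2 ⟨?_, ?_⟩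
  · intro x y hxy
    simp only [smul_eq_mul] at hxy
    exact sub_eq_zero.1 (hg _ (by rw [mul_sub, hxy, sub_self]))
  let e₀ : R ⧸ Ideal.span {g} ≃+* B :=
    (Ideal.quotEquivOfEq hker.symm).trans (RingHom.quotientKerEquivOfSurjective hq)
  have hl : (rs.map q).map e₀.symm = rs.map (Ideal.Quotient.mk (Ideal.span {g})) := by
    rw [List.map_map]
    refine List.map_congr_left fun x _ => ?_
    rw [Function.comp_apply, RingEquiv.symm_apply_eq]
    simp [e₀]
  have h1 := hl ▸ isWeaklyRegular_map_ringEquiv e₀.symm h
  have he : (g • ⊤ : Submodule R R) = Ideal.span {g} := by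
    ext x
    rw [Submodule.mem_smul_pointwise_iff_exists, Ideal.mem_span_singleton]
    constructor
    · rintro ⟨y, -, rfl⟩; exact ⟨y, rfl⟩
    · rintro ⟨y, rfl⟩; exact ⟨y, trivial, rfl⟩
  let e : QuotSMulTop g R ≃ₗ[R] R ⧸ Ideal.span {g} := Submodule.quotEquivOfEq _ _ he
  exact (e.isWeaklyRegular_congr rs).2
    ((isWeaklyRegular_map_algebraMap_iff (R ⧸ Ideal.span {g}) (R ⧸ Ideal.span {g}) rs).1 h1)

theorem exists_transport {A B S : Type u} [CommRing A] [CommRing B] [CommRing S] (e : A ≃+* B)
    (φ : S →+* A) (ψ : S →+* B) (he : ∀ x, e (φ x) = ψ x) (I : Ideal S) {g : List A}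
    (hg : IsWeaklyRegular A g) (hI : Ideal.ofList g = I.map φ) :
    IsWeaklyRegular B (g.map e) ∧ Ideal.ofList (g.map e) = I.map ψ := by
  refine ⟨isWeaklyRegular_map_ringEquiv e hg, (ofList_map' (e : A →+* B) g).trans ?_⟩
  rw [hI, Ideal.map_map]
  exact congrArg (fun φ => Ideal.map φ I) (RingHom.ext he)

/-- Lifting a weakly regular sequence from a quotient by a nonzerodivisor. -/
theorem exists_lift_cons {A B : Type u} [CommRing A] [CommRing B] {g : A} (hg : ∀ x, g * x = 0 → x = 0)
    (Q : A →+* B) (hQ : Function.Surjective Q) (hker : RingHom.ker Q = Ideal.span {g})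
    {g' : List B} (h : IsWeaklyRegular B g') (J : Ideal A) (hJ : Ideal.ofList g' = J.map Q) :
    ∃ l : List A, IsWeaklyRegular A l ∧ Ideal.ofList l = Ideal.span {g} ⊔ J := by
  have hl : (g'.map (Function.surjInv hQ)).map Q = g' := by
    rw [List.map_map]
    conv_rhs => rw [← List.map_id g']
    exact List.map_congr_left fun x _ => Function.surjInv_eq hQ x
  refine ⟨g :: g'.map (Function.surjInv hQ),
    isWeaklyRegular_cons_of_quotient hg Q hQ hker (by rw [hl]; exact h), ?_⟩
  have key : Ideal.map Q (Ideal.ofList (g'.map (Function.surjInv hQ))) = J.map Q := by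
    rw [← ofList_map', hl, hJ]
  rw [Ideal.ofList_cons, ← hker, sup_comm, sup_comm (RingHom.ker Q)]
  exact (Ideal.map_eq_iff_sup_ker_eq_of_surjective Q hQ).1 key

/-- The inductive step: lifting from `A/(g1)` to polynomials over `A`. -/
theorem exists_lift_step {A B : Type u} [CommRing A] [CommRing B] {g1 : A} (hnz : ∀ x, g1 * x = 0 → x = 0)
    (q : A →+* B) (hq : Function.Surjective q) (hker : RingHom.ker q = Ideal.span {g1})
    (m : List A) {σ : Type} {g' : List (MvPolynomial σ B)} (hg' : IsWeaklyRegular (MvPolynomial σ B) g')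
    (hg'I : Ideal.ofList g' = (Ideal.ofList (m.map q)).map MvPolynomial.C) :
    ∃ L : List (MvPolynomial σ A), IsWeaklyRegular (MvPolynomial σ A) L ∧
      Ideal.ofList L = Ideal.span {MvPolynomial.C g1} ⊔ (Ideal.ofList m).map MvPolynomial.C := by
  let Q : MvPolynomial σ A →+* MvPolynomial σ B :=
    MvPolynomial.map q
  have hQ : Function.Surjective Q := MvPolynomial.map_surjective q hq
  have hQker : RingHom.ker Q = Ideal.span {MvPolynomial.C g1} := by
    rw [MvPolynomial.ker_map, hker, Ideal.map_span, Set.image_singleton]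
  have hnzC : ∀ x : MvPolynomial σ A, MvPolynomial.C g1 * x = 0 → x = 0 := fun x hx =>
    MvPolynomial.ext _ _ fun m => hnz _ (by simpa using congrArg (MvPolynomial.coeff m) hx)
  have hcomp : (MvPolynomial.C (σ := σ)).comp q = Q.comp MvPolynomial.C :=
    RingHom.ext fun x => (MvPolynomial.map_C q x).symm
  have hJ : Ideal.ofList g' =
      ((Ideal.ofList m).map MvPolynomial.C).map Q := by
    rw [hg'I, ofList_map' q m, Ideal.map_map, Ideal.map_map, hcomp]
  exact exists_lift_cons hnzC Q hQ hQker hg' _ hJ

/-- After a polynomial extension, a Koszul-regular ideal is generated by a weakly regular sequence. -/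
theorem exists_isWeaklyRegular : ∀ (n : ℕ) {R : Type u} [CommRing R] (l : List R),
    l.length = n → LCI.IsKoszulRegularSeq R l →
    ∃ (σ : Type) (_ : Finite σ) (g : List (MvPolynomial σ R)),
      IsWeaklyRegular (MvPolynomial σ R) g ∧
        Ideal.ofList g = (Ideal.ofList l).map MvPolynomial.C := by
  intro n
  induction n with
  | zero =>
    intro R _ l hl _
    rw [List.eq_nil_of_length_eq_zero hl]
    exact ⟨Empty, inferInstance, [], IsWeaklyRegular.nil _ _, by simp⟩
  | succ n ih =>
    intro R _ l hn hl
    classical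
    obtain ⟨f, rest, rfl⟩ := List.exists_cons_of_length_eq_add_one hn
    have hflat : (Polynomial.C : R →+* Polynomial R).Flat := by
      rw [← Polynomial.algebraMap_eq, RingHom.flat_algebraMap_iff]
      infer_instance
    have hR1 := isKoszulRegularSeq_map _ hflat hl
    rw [List.map_cons] at hR1
    let g1 := gpoly (f :: rest)
    have hmem : Polynomial.X * gpoly rest ∈ Ideal.ofList (rest.map Polynomial.C) :=
      Ideal.mul_mem_left _ _ (gpoly_mem rest)
    have hg1R : LCI.IsKoszulRegularSeq (Polynomial R) (g1 :: rest.map Polynomial.C) := by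
      have := isKoszulRegularSeq_head hR1 isUnit_one hmem
      rwa [one_mul] at this
    have hnz : ∀ x, g1 * x = 0 → x = 0 := fun x hx => gpoly_mul_eq_zero hl (by simp) hx
    let q : Polynomial R →+* Polynomial R ⧸ Ideal.span {g1} := Ideal.Quotient.mk _
    have hquot : LCI.IsKoszulRegularSeq _ ((rest.map Polynomial.C).map q) :=
      isKoszulRegularSeq_of_append q (isKoszulRegularSeq_singleton hnz) Ideal.Quotient.mk_surjective
        (by rw [Ideal.mk_ker, Ideal.ofList_singleton])
        (isKoszulRegularSeq_perm (List.perm_append_singleton _ _).symm hg1R)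
    obtain ⟨σ, hσ, g', hg', hg'I⟩ := ih ((rest.map Polynomial.C).map q) (by simpa using hn) hquot
    obtain ⟨L, hwr, hspan⟩ := exists_lift_step hnz q Ideal.Quotient.mk_surjective Ideal.mk_ker
      (rest.map Polynomial.C) hg' hg'I
    have h1 : Ideal.ofList ((f :: rest).map Polynomial.C) =
        Ideal.span {g1} ⊔ Ideal.ofList (rest.map Polynomial.C) := by
      rw [List.map_cons, Ideal.ofList_cons]
      refine le_antisymm (sup_le ?_ le_sup_right) (sup_le ?_ le_sup_right) <;>
        rw [Ideal.span_singleton_le_iff_mem]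
      · have : Polynomial.C f = g1 - Polynomial.X * gpoly rest := eq_sub_of_add_eq rfl
        rw [this]
        exact sub_mem (Ideal.mem_sup_left (Ideal.mem_span_singleton_self _))
          (Ideal.mem_sup_right hmem)
      · exact Submodule.add_mem_sup (Ideal.mem_span_singleton_self _) hmem
    have hspan' : Ideal.ofList L = (Ideal.ofList (f :: rest)).map (MvPolynomial.C.comp Polynomial.C) := by
      rw [hspan, ← Ideal.map_map, ← ofList_map' Polynomial.C (f :: rest), h1, Ideal.map_sup]
      congr 1
      rw [Ideal.map_span, Set.image_singleton]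
    have hcomm : ∀ x : R, (MvPolynomial.optionEquivRight R σ).symm
        ((MvPolynomial.C.comp Polynomial.C) x) = MvPolynomial.C x := fun x =>
      (MvPolynomial.optionEquivRight R σ).symm.commutes x
    obtain ⟨h1, h2⟩ := exists_transport
      ((MvPolynomial.optionEquivRight R σ).symm : MvPolynomial σ (Polynomial R) ≃+* MvPolynomial (Option σ) R)
      (MvPolynomial.C.comp Polynomial.C) MvPolynomial.C hcomm _ hwr hspan'
    exact ⟨Option σ, inferInstance, _, h1, h2⟩

end Groth.Agent.KReg47
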